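import Cfsg.Agent.Lib.Recog.HsTwoLocal.Certs.MBad13.Tree0

set_option autoImplicit false
set_option maxRecDepth 20000

/-! Generated certificate: an inconsistent extension (tools/cosetbound/gen_pairs.py; owner: helper21). -/

namespace CfsgLib.Recog.HsTwoLocal.Certs.MBad13
open CfsgLib.Recog.SporBound (Q)

noncomputable def factTree : Q (ℕ) := ft6
noncomputable def nodeTree : Q (ℕ) := ct0
noncomputable def stepTree : Q (List ℕ) := st5
noncomputable def finalTree : Q (List ℕ) := et0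

/-- The certificate. -/
noncomputable def cert : CfsgLib.Sporadic.PairEnum.Cert where
  n := 1
  nd := 391
  nf := 675
  nl := 8
  kl := []
  facts := factTree
  cn := nodeTree
  steps := stepTree
  finals := finalTree
  rels := [[0, 0, 0, 0],
    [3, 1, 2, 1, 3, 0, 2, 0],
    [3, 3, 1, 2, 2, 1, 3, 3, 0, 2, 2, 0],
    [2, 2, 2, 2, 2, 2, 2],
    [4, 4, 4],
    [3, 3, 5, 2, 4],
    [1, 5, 0, 4],
    [1, 3, 1, 1, 3, 1, 3, 0, 2, 2, 2],
    [0, 7, 0, 6],
    [3, 3, 0, 2, 2, 7, 3, 0, 2, 6],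
    [4, 7, 4, 6],
    [1, 1, 6, 6],
    [1, 1, 3, 1, 3, 1, 1, 2, 2, 2, 6, 2, 6, 2, 6, 2, 6],
    [1, 1, 1, 3, 1, 1, 3, 1, 1, 1, 2, 2, 2, 2, 6, 2, 2, 6, 2, 2, 6]]
  subs := []

/-- Traced words with their chains. -/
noncomputable def closers : List (List ℕ × ℕ) :=
  [([0, 0], 0x2a200007000000000300000)]

end CfsgLib.Recog.HsTwoLocal.Certs.MBad13
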